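import Cfsg.Agent.H644.KGV.Defs

/-!
# The Gauss sum proof of the k(GV) theorem: the intermediate goals on groups
-/

set_option autoImplicit false

universe u

namespace Cfsg.Agent.H644.KGV

open Cfsg Finset Polynomial

/-- Tensor induction from a normal subgroup of prime index `ℓ ≠ p` (task TI). -/
def TensorInd : Prop := ∀ (p : ℕ) [Fact p.Prime] (H : Type u) [Group H] [Finite H]
  (N : Subgroup H) [N.Normal] (ℓ : ℕ), ℓ.Prime → ℓ ≠ p → N.index = ℓ →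
  ∀ (t : H), t ∉ N → ∀ (κ : ZMod p → N → ℂ), UInt p N κ →
  ∀ (κ' : ZMod p → H → ℂ),
    (∀ a, a ≠ 0 → ∀ n : N, κ' a n =
      ∏ i ∈ range ℓ, κ a ⟨t ^ i * n * (t ^ i)⁻¹, Subgroup.Normal.conj_mem ‹_› _ n.2 _⟩) →
    (∀ a, a ≠ 0 → ∀ h : H, h ∉ N → ∀ hh : h ^ ℓ ∈ N, κ' a h = κ ((ℓ : ZMod p) * a) ⟨h ^ ℓ, hh⟩) →
    UInt p H κ'

/-- The inductive step (task INDSTEP). -/
def IndStep : Prop := ∀ (p : ℕ) [Fact p.Prime] (T : ℕ → ℕ → ZMod p), GaussSys p T →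
  ∀ (H : Type u) [Group H] [Finite H] [Fintype H] (N : Subgroup H) [N.Normal] (ℓ f : ℕ),
    ¬ p ∣ Nat.card H → ℓ.Prime → N.index = ℓ → 1 ≤ f → ℓ ∣ p ^ f - 1 →
  ∀ (φ : N → ℂ), IsCharacter N φ → (∀ n : N, φ (n ^ (p ^ f)) = φ n) →
  ∀ (F : ZMod p → ℂ → ℂ), (∀ a, a ≠ 0 → OrbFun p T f a (F a)) →
    UInt p N (fun a => kap (F a) φ) → UInt p H (fun a => kap (F a) (indFun N φ))

/-- The semilinear case (task SEMI). -/
def Semilinear : Prop := ∀ (p : ℕ) [Fact p.Prime] (T : ℕ → ℕ → ZMod p), GaussSys p T →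
  ∀ (E : Type u) [Group E] [Finite E] [Fintype E] (A : Subgroup E) [A.Normal] (t : E)
    (ℓ k f : ℕ) (lam : A →* ℂˣ), ¬ p ∣ Nat.card E → ℓ.Prime → A.index = ℓ ^ k → 1 ≤ f →
    (A.index ≠ 1 → ℓ ∣ p ^ f - 1) → A ⊔ Subgroup.zpowers t = ⊤ →
    (∀ (a b : A), (b : E) = t * a * t⁻¹ → lam b = lam a ^ (p ^ f)) →
  ∀ (F : ZMod p → ℂ → ℂ), (∀ a, a ≠ 0 → OrbFun p T f a (F a)) →
    UInt p E (fun a => kap (F a) (indFun A (fun x => (lam x : ℂ))))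

/-- The structure of the invariant irreducible characters of an elementary group (task DICH). -/
def Dichotomy : Prop := ∀ (p : ℕ) [Fact p.Prime] (E : Type u) [Group E] [Finite E] [Fintype E]
  (ℓ f : ℕ), ℓ.Prime → IsElementary ℓ E → ¬ p ∣ Nat.card E → 1 ≤ f →
  ∀ (χ : E → ℂ), IsIrrCharacter E χ → (∀ h : E, χ (h ^ (p ^ f)) = χ h) →
    (∃ (N : Subgroup E) (φ : N → ℂ), N.Normal ∧ N.index = ℓ ∧ ℓ ∣ p ^ f - 1 ∧ IsCharacter N φ ∧
      (∀ n : N, φ (n ^ (p ^ f)) = φ n) ∧ χ = indFun N φ) ∨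
    (∃ (A : Subgroup E) (t : E) (k : ℕ) (lam : A →* ℂˣ), A.Normal ∧ A.index = ℓ ^ k ∧
      (A.index ≠ 1 → ℓ ∣ p ^ f - 1) ∧ A ⊔ Subgroup.zpowers t = ⊤ ∧
      (∀ (a b : A), (b : E) = t * a * t⁻¹ → lam b = lam a ^ (p ^ f)) ∧
      χ = indFun A (fun x => (lam x : ℂ)))

/-- Integrality on elementary groups (task ELEM). -/
def Elem : Prop := ∀ (p : ℕ) [Fact p.Prime] (T : ℕ → ℕ → ZMod p), GaussSys p T →
  ∀ (E : Type u) [Group E] [Finite E] (ℓ f : ℕ), ℓ.Prime → IsElementary ℓ E →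
    ¬ p ∣ Nat.card E → 1 ≤ f →
  ∀ (χ : E → ℂ), IsCharacter E χ → (∀ h : E, χ (h ^ (p ^ f)) = χ h) →
  ∀ (F : ZMod p → ℂ → ℂ), (∀ a, a ≠ 0 → OrbFun p T f a (F a)) →
    UInt p E (fun a => kap (F a) χ)

/-- The Brauer lift of the module `V` (task LIFT): `X = V G` as in the `k(GV)` problem. -/
def BrauerLift : Prop := ∀ (p : ℕ) [Fact p.Prime] (X : Type u) [Group X] [Finite X]
  (V G : Subgroup X) [V.Normal], (∀ v ∈ V, v ^ p = 1) → (∀ v ∈ V, ∀ w ∈ V, v * w = w * v) →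
  ¬ p ∣ Nat.card G →
    ∃ β : G → ℂ, IsCharacter G β ∧ (∀ g : G, β (g ^ p) = β g) ∧
      ∃ n : ℕ, Nat.card V = p ^ n ∧ ∀ g : G, (eig β g).card = n ∧
        Nat.card ↥(V ⊓ Subgroup.centralizer ({(g : X)} : Set X)) = p ^ ((eig β g).count 1)

/-- The class functions `κ` of the k(GV) problem. -/
structure KData (p : ℕ) [NeZero p] {X : Type u} [Group X] (V G : Subgroup X)
    (κ : ZMod p → G → ℂ) : Prop where
  uint : UInt p G κ
  one : ∀ a, a ≠ 0 → κ a 1 = 1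
  norm : ∀ a, a ≠ 0 → ∀ g : G, ‖κ a g‖ ^ 2 *
    (Nat.card ↥(V ⊓ Subgroup.centralizer ({(g : X)} : Set X)) : ℝ) = (Nat.card V : ℝ)
  ideal : ∀ a, a ≠ 0 → ∀ g : G, g ≠ 1 → ∃ y : ℂ, IsIntegral ℤ y ∧
    κ a g = (1 - (ZMod.stdAddChar (1 : ZMod p) : ℂ)) * y

/-- Existence of `κ` (task MAIN). -/
def ExistsK : Prop := ∀ (p : ℕ) [Fact p.Prime] (X : Type u) [Group X] [Finite X]
  (V G : Subgroup X) [V.Normal], (∀ v ∈ V, v ^ p = 1) → ¬ p ∣ V.index →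
    Subgroup.centralizer (V : Set X) = V → Subgroup.IsComplement' V G →
    ∃ κ : ZMod p → G → ℂ, KData p V G κ

/-- The final count (task COUNT). -/
def Count : Prop := ∀ (p : ℕ) [Fact p.Prime] (X : Type u) [Group X] [Finite X]
  (V G : Subgroup X) [V.Normal], (∀ v ∈ V, v ^ p = 1) → ¬ p ∣ V.index →
    Subgroup.centralizer (V : Set X) = V → Subgroup.IsComplement' V G →
    ∀ κ : ZMod p → G → ℂ, KData p V G κ →
      Nat.card (ConjClasses X) ≤ Nat.card V ∧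
      (Nat.card (ConjClasses X) = Nat.card V → ∀ χ : X → ℂ, IsIrrCharacter X χ → ∀ d : ℕ,
        χ 1 = (d : ℂ) → d ≡ Nat.card G [MOD p] ∨ d + Nat.card G ≡ 0 [MOD p])

/-- The k(GV) theorem together with the information on the equality case. -/
def MainKGV : Prop := ∀ (p : ℕ) [Fact p.Prime] (X : Type u) [Group X] [Finite X]
  (V : Subgroup X) [V.Normal], (∀ v ∈ V, v ^ p = 1) → ¬ p ∣ V.index →
    Subgroup.centralizer (V : Set X) = V →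
      Nat.card (ConjClasses X) ≤ Nat.card V ∧
      (Nat.card (ConjClasses X) = Nat.card V → ∀ χ : X → ℂ, IsIrrCharacter X χ → ∀ d : ℕ,
        χ 1 = (d : ℂ) → d ≡ V.index [MOD p] ∨ d + V.index ≡ 0 [MOD p])

end Cfsg.Agent.H644.KGV
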