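import Cfsg.Agent.H644.KGV.IndStep
import Cfsg.Agent.H991.KGV.NT1
import Cfsg.Agent.H521.KGV.HdTwo
import Cfsg.Agent.H766.KGV.StickLight
import Cfsg.Agent.H774.KGV.OddMain
import Cfsg.Agent.H295.KGV.OddNS
import Cfsg.Agent.H99.KGV.NT5a
import Cfsg.Agent.H32.KGV.Sign
import Cfsg.Agent.H577.KGV.Sys
import Cfsg.Agent.H266.KGV.Dich
import Cfsg.Agent.H140.KGV.Semi
import Cfsg.Agent.H625.KGV.Elem
import Cfsg.Agent.H671.KGV.Lift
import Cfsg.Agent.H194.KGV.Main
import Cfsg.Agent.H991.KGV.CountB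

/-!
# The k(GV) theorem: the final assembly

`mainKGV : MainKGV` is the k(GV) theorem, proved with Gauss sums: let `X` be a finite group with an
elementary abelian normal self-centralizing `p`-subgroup `V` of index prime to `p`. Then
`k(X) ≤ |V|`, and in the case of equality the irreducible character degrees of `X` are congruent to
`± |X : V|` modulo `p`.
-/

set_option autoImplicit false

universe u

namespace Cfsg.Agent.H644.KGV

theorem hdLift' : HDLift := Cfsg.Agent.H991.KGV.hdLift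

theorem hdTwo' : HDTwo := Cfsg.Agent.H521.KGV.HdTwo.hdTwo

theorem hdOdd' : HDOdd := Cfsg.Agent.H774.KGV.hdOdd_of_stickLight Cfsg.Agent.H766.KGV.stickLight

theorem hdOddNS' : HDOddNS := Cfsg.Agent.H295.KGV.hdOddNS hdLift' hdOdd'

theorem hdTwoNS' : HDTwoNS :=
  Cfsg.Agent.H99.KGV.hdTwoNS_of hdLift' hdTwo' (fun K L _ _ _ _ _ X Y η ψ hψ h2 hη hη2 hf hXY hX =>
    Cfsg.Agent.H32.KGV.sign K L X Y η ψ hψ h2 hη hη2 hf hXY hX)

theorem exists_gaussSys' (p : ℕ) [Fact p.Prime] : ∃ T, GaussSys p T :=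
  Cfsg.Agent.H577.KGV.exists_gaussSys hdLift' hdTwo' hdOdd' hdOddNS' hdTwoNS' p

theorem elem' : Elem.{u} :=
  Cfsg.Agent.H625.KGV.elem indStep Cfsg.Agent.H140.KGV.semilinear Cfsg.Agent.H266.KGV.dichotomy

theorem existsK' : ExistsK.{u} :=
  Cfsg.Agent.H194.KGV.existsK elem' Cfsg.Agent.H671.KGV.brauerLift
    (fun p _ => exists_gaussSys' p)

/-- **The k(GV) theorem.** -/
theorem mainKGV : MainKGV.{u} :=
  Cfsg.Agent.H194.KGV.mainKGV existsK' Cfsg.Agent.H991.KGV.count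

end Cfsg.Agent.H644.KGV
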