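import Cfsg.Agent.H644.KGV.Goals
import Cfsg.Agent.H500.KGV.Eig
import Cfsg.Agent.H491.KGV.Eig
import Cfsg.Agent.H719.KGV.Star
import Cfsg.Agent.H688.KGV.UIntBasic
import Cfsg.Agent.H891.KGV.TI

/-!
# The inductive step: induction from a normal subgroup of prime index
-/

set_option autoImplicit false

universe u

namespace Cfsg.Agent.H644.KGV

open Cfsg Finset Polynomial

open Cfsg.Agent.H688.KGV (UI.congr)

/-- The function `1` on `N` and `c a` off `N` for `c a = 1 + ℓ m(a)`. -/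
theorem uint_delta {p : ℕ} [Fact p.Prime] {H : Type u} [Group H] [Finite H] (N : Subgroup H)
    [hN : N.Normal] {ℓ : ℕ} (hi : N.index = ℓ) (c : ZMod p → ℂ) (m : ZMod p → ℤ)
    (hc : ∀ a, a ≠ 0 → c a = 1 + (ℓ : ℂ) * ∑ k : ZMod p, (ZMod.stdAddChar (a * k) : ℂ) * (m k : ℂ))
    (δ : ZMod p → H → ℂ) (h1 : ∀ a h, h ∈ N → δ a h = 1) (h2 : ∀ a h, h ∉ N → δ a h = c a) :
    UInt p H δ := by
  classical
  let _ : Fintype H := Fintype.ofFinite H
  have hρ : UInt p H (fun _ => indFun N (fun _ => (1 : ℂ))) :=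
    H688.KGV.UI.ind (p := p) N (H688.KGV.UI.one)
  have hval : ∀ h : H, indFun N (fun _ => (1 : ℂ)) h = if h ∈ N then (ℓ : ℂ) else 0 := by
    intro h
    unfold indFun
    have h3 : ∀ x : H, extendByZero N (fun _ => (1 : ℂ)) (x⁻¹ * h * x) = if h ∈ N then 1 else 0 := by
      intro x
      have h4 : x⁻¹ * h * x ∈ N ↔ h ∈ N := by
        constructor
        · intro h5
          have := hN.conj_mem _ h5 x
          simpa [mul_assoc] using this
        · intro h5
          have := hN.conj_mem _ h5 x⁻¹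
          simpa [mul_assoc] using this
      unfold extendByZero
      by_cases h6 : h ∈ N
      · rw [if_pos h6]
        have h7 : x⁻¹ * h * x = Subtype.val (⟨x⁻¹ * h * x, h4.2 h6⟩ : N) := rfl
        rw [h7, Function.Injective.extend_apply Subtype.val_injective]
      · rw [if_neg h6, Function.extend_apply']
        · rfl
        · rintro ⟨y, hy⟩
          exact h6 (h4.1 (hy ▸ y.2))
    simp only [h3]
    rw [Finset.sum_const, card_univ, nsmul_eq_mul, ← Nat.card_eq_fintype_card]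
    split_ifs with h6
    · rw [mul_one, ← Subgroup.card_mul_index N, hi]
      have h8 : (Nat.card N : ℂ) ≠ 0 := Nat.cast_ne_zero.2 Nat.card_pos.ne'
      push_cast
      field_simp
    · rw [mul_zero, mul_zero]
  have hS : UInt p H (fun a _ => ∑ k : ZMod p, (ZMod.stdAddChar (a * k) : ℂ) * (m k : ℂ)) :=
    H688.KGV.UI.scalar m
  refine H688.KGV.UI.congr (H688.KGV.UI.add (H688.KGV.UI.one (p := p) (G := H))
    (H688.KGV.UI.mul hS (H688.KGV.UI.sub (H688.KGV.UI.intConst (p := p) (G := H) (ℓ : ℤ)) hρ)))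
    fun a ha h => ?_
  rw [hval]
  by_cases h6 : h ∈ N
  · rw [if_pos h6, h1 a h h6]
    push_cast
    ring
  · rw [if_neg h6, h2 a h h6, hc a ha]
    push_cast
    ring

theorem indStep : IndStep.{u} := by
  classical
  intro p _ T hT H _ _ _ N hN ℓ f hp hℓ hi hf hℓf φ hφ hinv F hF hU
  have hpp : p.Prime := Fact.out
  have hℓp : ℓ ≠ p := by
    rintro rfl
    exact hp (hi ▸ Subgroup.index_dvd_card N)
  have hℓ0 : (ℓ : ZMod p) ≠ 0 := by
    intro h
    rw [ZMod.natCast_eq_zero_iff] at h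
    exact hℓp ((Nat.prime_dvd_prime_iff_eq hpp hℓ).1 h).symm
  obtain ⟨t, ht⟩ : ∃ t, t ∉ N := by
    by_contra h
    push Not at h
    have : N = ⊤ := (Subgroup.eq_top_iff' N).2 h
    rw [this, Subgroup.index_top] at hi
    exact hℓ.one_lt.ne hi
  have hpow : ∀ h : H, h ^ ℓ ∈ N := fun h => by
    have := N.pow_index_mem h
    rwa [hi] at this
  have hcl : IsClassFunction N φ := Characters.Core.isCharacter_isClassFunction hφ
  have hE : ∀ a : N, IsEig φ a (eig φ a) := fun a => H500.KGV.eig_spec hφ a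
  -- the tensor induced family
  let κ' : ZMod p → H → ℂ := fun a h =>
    if hh : h ∈ N then ∏ i ∈ range ℓ, kap (F a) φ ⟨t ^ i * h * (t ^ i)⁻¹, hN.conj_mem _ hh _⟩
    else kap (F ((ℓ : ZMod p) * a)) φ ⟨h ^ ℓ, hpow h⟩
  have hκ' : UInt p H κ' := by
    refine H891.KGV.tensorInd p H N ℓ hℓ hℓp hi t ht (fun a => kap (F a) φ) hU κ' ?_ ?_
    · intro a _ n
      simp only [κ', dif_pos n.2]
    · intro a _ h hh hh'
      simp only [κ', dif_neg hh]
  -- the constants
  obtain ⟨m, hm⟩ := hT.cst f ℓ hf hℓ hℓf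
  let δ : ZMod p → H → ℂ := fun a h => if h ∈ N then 1 else cG p T f ℓ a
  have hδ : UInt p H δ := uint_delta N hi (fun a => cG p T f ℓ a) m hm δ
    (fun a h hh => if_pos hh) (fun a h hh => if_neg hh)
  refine H688.KGV.UI.congr (H688.KGV.UI.mul hκ' (H688.KGV.UI.pow hδ (eig φ 1).card))
    fun a ha h => ?_
  by_cases hh : h ∈ N
  · rw [H491.KGV.kap_ind_mem N hℓ hi ht hcl hE (F a) hh]
    simp only [κ', δ, dif_pos hh, if_pos hh, one_pow, mul_one]
  · rw [H491.KGV.kap_ind_not_mem N hℓ hi hcl hE (F a) hh (hpow h)]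
    simp only [κ', δ, dif_neg hh, if_neg hh]
    have hpN : ¬ p ∣ Nat.card N := fun h0 => hp (h0.trans (Subgroup.card_subgroup_dvd_card N))
    rw [H719.KGV.star_multiset hT hℓ ha hf hℓf (hF a ha) (hF _ (mul_ne_zero hℓ0 ha)) hpN
      (eig φ ⟨h ^ ℓ, hpow h⟩) (fun z hz => H500.KGV.pow_card_of_mem_eig hz)
      (H500.KGV.eig_map_pow hφ hinv _), H500.KGV.card_eig_eq hφ _ 1]
    rfl

end Cfsg.Agent.H644.KGV
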